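import Groth.Prelude.Def_Pi1
import Mathlib.RingTheory.Finiteness.Descent
import Mathlib.Algebra.Module.FinitePresentation
import Mathlib.LinearAlgebra.TensorProduct.RightExactness

/-!
# Descent along universally injective ring maps
-/

set_option autoImplicit false

universe u

open TensorProduct

namespace Pi1DescLib

variable {R S : Type u} [CommRing R] [CommRing S] [Algebra R S] (h : Pi1.UnivInjective R S)

include h in
theorem one_tmul_injective (M : Type u) [AddCommGroup M] [Module R M] :
    Function.Injective fun m : M => (1 : S) ⊗ₜ[R] m := by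
  intro a b hab
  apply (TensorProduct.rid R M).symm.injective
  apply h M
  rw [TensorProduct.rid_symm_apply, TensorProduct.rid_symm_apply, LinearMap.lTensor_tmul,
    LinearMap.lTensor_tmul, Algebra.linearMap_apply, map_one]
  exact (TensorProduct.comm R S M).injective.eq_iff.2 hab

include h in
theorem injective_of_lTensor {M N : Type u} [AddCommGroup M] [Module R M] [AddCommGroup N] [Module R N]
    (f : M →ₗ[R] N) (hf : Function.Injective (f.lTensor S)) : Function.Injective f := fun a b hab =>
  one_tmul_injective h M (hf (by rw [LinearMap.lTensor_tmul, LinearMap.lTensor_tmul, hab]))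

include h in
theorem surjective_of_lTensor {M N : Type u} [AddCommGroup M] [Module R M] [AddCommGroup N] [Module R N]
    (f : M →ₗ[R] N) (hf : Function.Surjective (f.lTensor S)) : Function.Surjective f := by
  intro x
  suffices hx : (LinearMap.range f).mkQ x = 0 by simpa using hx
  apply one_tmul_injective h (N ⧸ LinearMap.range f)
  obtain ⟨z, hz⟩ := hf ((1 : S) ⊗ₜ x)
  simp only [tmul_zero]
  rw [← LinearMap.lTensor_tmul, ← hz, ← LinearMap.comp_apply, ← LinearMap.lTensor_comp,
    LinearMap.range_mkQ_comp, LinearMap.lTensor_zero, LinearMap.zero_apply]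

include h in
theorem finite_descends (M : Type u) [AddCommGroup M] [Module R M] [Module.Finite S (S ⊗[R] M)] :
    Module.Finite R M := by
  obtain ⟨n, s, hs⟩ := Module.Finite.exists_fin (R := S) (M := S ⊗[R] M)
  choose k t m hsum using fun i : Fin n ↦ TensorProduct.exists_sum_tmul_eq (s i)
  let f₀ : ((Σ i, Fin (k i)) → R) →ₗ[R] M := (Pi.basisFun R _).constr R fun ⟨i, j⟩ ↦ m i j
  apply Module.Finite.of_surjective f₀
  apply surjective_of_lTensor h
  have : Function.Surjective (AlgebraTensorModule.lTensor S S f₀) := by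
    rw [← LinearMap.range_eq_top, eq_top_iff, ← hs, Submodule.span_le, Set.range_subset_iff]
    intro i
    use ∑ (j : Fin (k i)), t i j ⊗ₜ Pi.basisFun R _ ⟨i, j⟩
    simp [f₀, -Pi.basisFun_equivFun, -Pi.basisFun_apply, hsum i]
  exact this

include h in
theorem finitePresentation_descends (M : Type u) [AddCommGroup M] [Module R M]
    [Module.FinitePresentation S (S ⊗[R] M)] : Module.FinitePresentation R M := by
  classical
  have := finite_descends h M
  obtain ⟨n, f, hf⟩ := Module.Finite.exists_fin' R M
  let fS := f.baseChange S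
  have hfS : Function.Surjective fS := LinearMap.lTensor_surjective S hf
  obtain ⟨G, hG⟩ := Module.FinitePresentation.fg_ker fS hfS
  have hmem : ∀ z ∈ G, ∃ w : S ⊗[R] LinearMap.ker f, (LinearMap.ker f).subtype.lTensor S w = z := fun z hz =>
    ((lTensor_exact S (LinearMap.exact_subtype_ker_map f) hf) z).1
      (show fS z = 0 from LinearMap.mem_ker.1 (hG ▸ Submodule.subset_span hz))
  choose w hw using hmem
  choose k t m hsum using fun z : G => TensorProduct.exists_sum_tmul_eq (w z.1 z.2)
  let K' : Submodule R (Fin n → R) :=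
    Submodule.span R (Set.range fun q : Σ z : G, Fin (k z) => ((m q.1 q.2 : LinearMap.ker f) : Fin n → R))
  have hK' : K' ≤ LinearMap.ker f := Submodule.span_le.2 (by rintro _ ⟨q, rfl⟩; exact (m q.1 q.2).2)
  let g : ((Fin n → R) ⧸ K') →ₗ[R] M := K'.liftQ f hK'
  have hker : LinearMap.ker fS ≤ LinearMap.ker (K'.mkQ.baseChange S) := by
    rw [← hG, Submodule.span_le]
    intro z hz
    rw [SetLike.mem_coe, LinearMap.mem_ker, ← hw z hz, hsum ⟨z, hz⟩, map_sum, map_sum]
    refine Finset.sum_eq_zero fun j _ => ?_
    have hmem : ((m ⟨z, hz⟩ j : LinearMap.ker f) : Fin n → R) ∈ K' :=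
      Submodule.subset_span ⟨⟨⟨z, hz⟩, j⟩, rfl⟩
    rw [LinearMap.lTensor_tmul, LinearMap.baseChange_tmul, Submodule.mkQ_apply, Submodule.subtype_apply,
      (Submodule.Quotient.mk_eq_zero K').2 hmem, tmul_zero]
  have hg : Function.Injective g := by
    refine injective_of_lTensor h g ?_
    rw [injective_iff_map_eq_zero]
    intro x hx
    obtain ⟨y, rfl⟩ := LinearMap.lTensor_surjective S K'.mkQ_surjective x
    rw [← LinearMap.comp_apply, ← LinearMap.lTensor_comp, Submodule.liftQ_mkQ] at hx
    exact LinearMap.mem_ker.1 (hker (show y ∈ LinearMap.ker fS from hx))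
  have hgs : Function.Surjective g := fun x => by
    obtain ⟨y, rfl⟩ := hf x
    exact ⟨K'.mkQ y, rfl⟩
  have : Module.FinitePresentation R ((Fin n → R) ⧸ K') := by
    refine Module.finitePresentation_of_surjective K'.mkQ K'.mkQ_surjective ?_
    rw [Submodule.ker_mkQ]
    exact Submodule.fg_span (Set.finite_range _)
  exact Module.FinitePresentation.of_equiv (LinearEquiv.ofBijective g ⟨hg, hgs⟩)

include h in
theorem finiteType_descends (A : Type u) [CommRing A] [Algebra R A] [Algebra.FiniteType S (S ⊗[R] A)] :
    Algebra.FiniteType R A := by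
  obtain ⟨s, hs⟩ := Algebra.FiniteType.out (R := S) (A := S ⊗[R] A)
  have (x : s) := TensorProduct.exists_sum_tmul_eq x.1
  choose k t m hsum using this
  let f : MvPolynomial (Σ x : s, Fin (k x)) R →ₐ[R] A := MvPolynomial.aeval (fun ⟨x, i⟩ ↦ m x i)
  apply Algebra.FiniteType.of_surjective f
  have hf : Function.Surjective (Algebra.TensorProduct.map (.id S S) f) := by
    rw [← AlgHom.range_eq_top, _root_.eq_top_iff, ← hs, Algebra.adjoin_le_iff]
    intro x hx
    let i : s := ⟨x, hx⟩
    use ∑ (j : Fin (k i)), t i j ⊗ₜ MvPolynomial.X ⟨i, j⟩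
    simp [f, ← hsum, i]
  exact surjective_of_lTensor h f.toLinearMap hf

end Pi1DescLib

namespace Pi1DescLib

variable {R S : Type u} [CommRing R] [CommRing S] [Algebra R S] (h : Pi1.UnivInjective R S)

include h in
theorem algFinitePresentation_descends (A : Type u) [CommRing A] [Algebra R A]
    [Algebra.FinitePresentation S (S ⊗[R] A)] : Algebra.FinitePresentation R A := by
  classical
  have hft := finiteType_descends h A
  obtain ⟨n, f, hf⟩ := Algebra.FiniteType.iff_quotient_mvPolynomial''.1 hft
  let fS := Algebra.TensorProduct.map (AlgHom.id S S) f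
  have hfS : Function.Surjective fS := LinearMap.lTensor_surjective S hf
  have : Algebra.FinitePresentation S (S ⊗[R] MvPolynomial (Fin n) R) := inferInstance
  obtain ⟨G, hG⟩ := Algebra.FinitePresentation.ker_fG_of_surjective fS hfS
  set I := RingHom.ker f.toRingHom with hI
  have hmem : ∀ z ∈ G, ∃ w : S ⊗[R] (LinearMap.ker f.toLinearMap),
      (LinearMap.ker f.toLinearMap).subtype.lTensor S w = z := fun z hz =>
    ((lTensor_exact S (LinearMap.exact_subtype_ker_map f.toLinearMap) hf) z).1
      (show fS z = 0 from RingHom.mem_ker.1 (hG ▸ Submodule.subset_span hz))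
  choose w hw using hmem
  choose k t m hsum using fun z : G => TensorProduct.exists_sum_tmul_eq (w z.1 z.2)
  let I' : Ideal (MvPolynomial (Fin n) R) :=
    Ideal.span (Set.range fun q : Σ z : G, Fin (k z) =>
      ((m q.1 q.2 : LinearMap.ker f.toLinearMap) : MvPolynomial (Fin n) R))
  have hI' : ∀ x ∈ I', f x = 0 := fun x hx => RingHom.mem_ker.1
    ((Ideal.span_le (I := RingHom.ker f.toRingHom)).2 (by rintro _ ⟨q, rfl⟩; exact (m q.1 q.2).2) hx)
  let π := Ideal.Quotient.mkₐ R I'
  let g : (MvPolynomial (Fin n) R ⧸ I') →ₐ[R] A := Ideal.Quotient.liftₐ I' f hI'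
  have hker : RingHom.ker fS ≤ RingHom.ker (Algebra.TensorProduct.map (AlgHom.id S S) π) := by
    show RingHom.ker fS.toRingHom ≤ _
    rw [← hG, Ideal.span_le]
    intro z hz
    have h1 := hw z hz
    rw [hsum ⟨z, hz⟩, map_sum] at h1
    rw [SetLike.mem_coe, RingHom.mem_ker, ← h1, map_sum]
    refine Finset.sum_eq_zero fun j _ => ?_
    rw [LinearMap.lTensor_tmul, Algebra.TensorProduct.map_tmul, Submodule.subtype_apply,
      show π ((m ⟨z, hz⟩ j : LinearMap.ker f.toLinearMap) : MvPolynomial (Fin n) R) = 0 from
        Ideal.Quotient.eq_zero_iff_mem.2 (Ideal.subset_span ⟨⟨⟨z, hz⟩, j⟩, rfl⟩), tmul_zero]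
  have hg : Function.Injective g := by
    refine injective_of_lTensor h g.toLinearMap ?_
    rw [injective_iff_map_eq_zero]
    intro x hx
    obtain ⟨y, rfl⟩ := LinearMap.lTensor_surjective S (g := π.toLinearMap) (Ideal.Quotient.mkₐ_surjective R I') x
    rw [← LinearMap.comp_apply, ← LinearMap.lTensor_comp] at hx
    exact RingHom.mem_ker (f := Algebra.TensorProduct.map (AlgHom.id S S) π).1
      (hker (show y ∈ RingHom.ker fS from hx))
  have hgs : Function.Surjective g := fun x => by
    obtain ⟨y, rfl⟩ := hf x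
    exact ⟨π y, rfl⟩
  have : Algebra.FinitePresentation R (MvPolynomial (Fin n) R ⧸ I') :=
    Algebra.FinitePresentation.quotient (Submodule.fg_span (Set.finite_range _))
  exact Algebra.FinitePresentation.equiv (AlgEquiv.ofBijective g ⟨hg, hgs⟩)

end Pi1DescLib
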