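import Groth.Prelude.Def_Pi1
import Mathlib.Algebra.Module.CharacterModule
import Mathlib.RingTheory.Flat.Basic
import Mathlib.LinearAlgebra.TensorProduct.Tower

/-!
# Flatness descends along universally injective ring maps

The character module of the base is a direct summand of that of the extension; this splits the dual of
the kernel of `I ⊗ M → M` off the one computed over the extension.
-/

set_option autoImplicit false
set_option maxHeartbeats 1000000

universe u

open TensorProduct

namespace Pi1DescLib

variable {R S : Type u} [CommRing R] [CommRing S] [Algebra R S] (h : Pi1.UnivInjective R S)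

include h in
theorem exists_section : ∃ e : CharacterModule R →ₗ[R] CharacterModule S,
    ∀ (c : CharacterModule R) (r : R), e c (algebraMap R S r) = c r := by
  obtain ⟨Φ, hΦ⟩ := CharacterModule.dual_surjective_of_injective _ (h (CharacterModule R))
    (CharacterModule.uncurry (R := R) (LinearMap.id : CharacterModule R →ₗ[R] CharacterModule R))
  refine ⟨CharacterModule.curry (R := R) Φ, fun c r => ?_⟩
  exact DFunLike.congr_fun hΦ (c ⊗ₜ r)

theorem exists_preimage_of_flat {P N N' : Type u} [AddCommGroup P] [Module S P] [Module.Flat S P]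
    [AddCommGroup N] [Module S N] [AddCommGroup N'] [Module S N'] (f : N →ₗ[S] N') (x : N ⊗[S] P)
    (hx : f.rTensor P x = 0) : ∃ v, (LinearMap.ker f).subtype.rTensor P v = x :=
  (Module.Flat.rTensor_exact P (LinearMap.exact_subtype_ker_map f) x).1 hx

include h in
theorem flat_descends (M : Type u) [AddCommGroup M] [Module R M] [Module.Flat S (S ⊗[R] M)] :
    Module.Flat R M := by
  rw [Module.Flat.iff_rTensor_injective']
  intro I
  rw [injective_iff_map_eq_zero]
  intro y hy
  refine CharacterModule.eq_zero_of_character_apply fun φ => ?_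
  obtain ⟨e, he⟩ := exists_section h
  let ψ : (I ⊗[R] M) →ₗ[R] CharacterModule R :=
    CharacterModule.curry (R := R) (CharacterModule.dual (TensorProduct.rid R (I ⊗[R] M)).toLinearMap φ)
  have hψ : ∀ z r, ψ z r = φ (r • z) := fun z r => by
    show φ (TensorProduct.rid R (I ⊗[R] M) (z ⊗ₜ r)) = _
    rw [TensorProduct.rid_tmul]
  let Φ : CharacterModule ((I ⊗[R] M) ⊗[R] S) := CharacterModule.uncurry (R := R) (e.comp ψ)
  have hΦ : ∀ z s, Φ (z ⊗ₜ s) = e (ψ z) s := fun _ _ => rfl
  let ι : (S ⊗[R] I) ⊗[R] M →ₗ[R] (I ⊗[R] M) ⊗[R] S :=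
    (TensorProduct.comm R S (I ⊗[R] M)).toLinearMap.comp (TensorProduct.assoc R S I M).toLinearMap
  let f : S ⊗[R] I →ₗ[S] S ⊗[R] R := LinearMap.baseChange S I.subtype
  -- the functional vanishes on the kernel
  have hker : ∀ k : S ⊗[R] I, f k = 0 → ∀ m : M, Φ (ι (k ⊗ₜ m)) = 0 := by
    intro k hk m
    obtain ⟨ρ, hρ⟩ := CharacterModule.dual_surjective_of_injective I.subtype Subtype.val_injective
      (CharacterModule.dual ((TensorProduct.mk R I M).flip m) φ)
    have hρ' : ∀ a : I, ρ (a : R) = φ (a ⊗ₜ m) := fun a => DFunLike.congr_fun hρ a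
    suffices hx : ∀ x : S ⊗[R] I, Φ (ι (x ⊗ₜ m)) = e ρ (TensorProduct.rid R S (f x)) by
      rw [hx, hk, map_zero, map_zero]
    intro x
    induction x with
    | zero => simp [map_zero]
    | add x₁ x₂ h₁ h₂ => simp only [add_tmul, map_add, h₁, h₂]
    | tmul s a =>
      have h1 : ψ (a ⊗ₜ m) = (a : R) • ρ := by
        refine CharacterModule.ext (A := R) fun r => ?_
        rw [hψ, CharacterModule.smul_apply, smul_tmul', ← hρ' (r • a)]
        show ρ (r * (a : R)) = ρ ((a : R) • r)
        rw [smul_eq_mul, mul_comm]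
      show Φ ((a ⊗ₜ[R] m) ⊗ₜ[R] s) = e ρ (TensorProduct.rid R S (s ⊗ₜ (a : R)))
      rw [hΦ, h1, map_smul, CharacterModule.smul_apply, TensorProduct.rid_tmul]
  -- the image of `y` comes from the kernel
  let cc := TensorProduct.AlgebraTensorModule.cancelBaseChange R S S (S ⊗[R] I) M
  let cc' := TensorProduct.AlgebraTensorModule.cancelBaseChange R S S (S ⊗[R] R) M
  have hnat : ∀ x, f.rTensor (S ⊗[R] M) (cc.symm x) = cc'.symm ((f.restrictScalars R).rTensor M x) := by
    intro x
    induction x with
    | zero => simp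
    | add x₁ x₂ h₁ h₂ => simp only [map_add, h₁, h₂]
    | tmul a m => rfl
  have h0 : f.rTensor (S ⊗[R] M) (cc.symm ((TensorProduct.mk R S I 1).rTensor M y)) = 0 := by
    rw [hnat, ← LinearMap.comp_apply (f := (f.restrictScalars R).rTensor M), ← LinearMap.rTensor_comp]
    have : (f.restrictScalars R).comp (TensorProduct.mk R S I 1) =
        (TensorProduct.mk R S R 1).comp I.subtype := LinearMap.ext fun a => rfl
    rw [this, LinearMap.rTensor_comp, LinearMap.comp_apply, hy, map_zero, map_zero]
  obtain ⟨v, hv⟩ := exists_preimage_of_flat f _ h0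
  have hv0 : ∀ v, Φ (ι (cc ((LinearMap.ker f).subtype.rTensor (S ⊗[R] M) v))) = 0 := by
    intro v
    induction v with
    | zero => simp only [map_zero]
    | add x₁ x₂ h₁ h₂ => simp only [map_add, h₁, h₂, add_zero]
    | tmul k z =>
      induction z with
      | zero => simp only [tmul_zero, map_zero]
      | add z₁ z₂ h₁ h₂ => simp only [tmul_add, map_add, h₁, h₂, add_zero]
      | tmul s m => exact hker (s • (k : S ⊗[R] I)) (by rw [map_smul, LinearMap.mem_ker.1 k.2, smul_zero]) m
  have h1 := hv0 v
  rw [hv, LinearEquiv.apply_symm_apply] at h1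
  have h2 : ∀ z, Φ (ι ((TensorProduct.mk R S I 1).rTensor M z)) = φ z := by
    intro z
    induction z with
    | zero => simp only [map_zero]
    | add x₁ x₂ h₁ h₂ => simp only [map_add, h₁, h₂]
    | tmul a m =>
      show Φ ((a ⊗ₜ[R] m) ⊗ₜ[R] (1 : S)) = _
      rw [hΦ, ← map_one (algebraMap R S), he, hψ, one_smul]
  rwa [h2] at h1

end Pi1DescLib
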